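import Cfsg.Agent.Lib.ExtraIndexP.Linear
import Cfsg.Agent.Lib.ExtraIndexP.Reduction

/-!
# The Siegel case: the essential subgroup as a space

`E` is the product of `⟨x⟩`, a complement of `⟨z⟩` in the centralizer of `x` in `Q`, and `⟨z⟩`.
-/

set_option autoImplicit false
set_option linter.unusedSectionVars false

open Cfsg Cfsg.FusionSystem CfsgLib.Fusion Module
open scoped commutatorElement

namespace CfsgLib.ExtraIndexP.Siegel

universe u

variable {Ω : Type u} [Group Ω] {p n : ℕ} [hp : Fact p.Prime] {S Q : Subgroup Ω}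
  {F : FusionSystem S} {z : Ω} {E : Subgroup Ω} {α : MulAut E} {x : Ω}

/-- The elements of `Q` commuting with `x`. -/
def InC (Q : Subgroup Ω) (x a : Ω) : Prop := a ∈ Q ∧ Commute a x

/-- The commutator with `x` that is added to `x` by conjugation. -/
def dd (x q : Ω) : Ω := x⁻¹ * q * x * q⁻¹

theorem cj_x (x q : Ω) : cj q x = x * dd x q := by simp [cj, dd, mul_assoc]

theorem dd_eq_one_iff {x q : Ω} : dd x q = 1 ↔ Commute q x := by
  rw [dd, mul_inv_eq_one]
  exact ⟨fun e => by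
    show q * x = x * q
    conv_rhs => rw [← e]
    group, fun e => by
    rw [mul_assoc, e.eq]; group⟩

theorem dd_mul (x r q : Ω) : dd x (r * q) = dd x r * cj r (dd x q) := by
  simp [dd, cj, mul_assoc]

section
variable (h : Ctx p n S Q F z) (t : CaseTwo p S Q F z E α x)
include h t

theorem Ex_le : E ≤ S := t.ess.1.1

theorem ord_x : orderOf x = p :=
  orderOf_eq_prime t.x_pow fun e => t.x_not (e ▸ Q.one_mem)

theorem zp_x_mem {i : ZMod p} (hm : zp x i ∈ Q) : i = 0 :=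
  by_contra fun hi => t.x_not (mem_of_zp_mem t.x_pow hi hm)

theorem inC_le {a : Ω} (ha : InC Q x a) : a ∈ E := by
  rw [t.E_eq]
  exact Subgroup.mem_sup_right ⟨ha.1, Subgroup.mem_centralizer_singleton_iff.2 ha.2.eq⟩

theorem inC_one : InC Q x (1 : Ω) := ⟨Q.one_mem, Commute.one_left x⟩

theorem inC_mul {a b : Ω} (ha : InC Q x a) (hb : InC Q x b) : InC Q x (a * b) :=
  ⟨Q.mul_mem ha.1 hb.1, ha.2.mul_left hb.2⟩

theorem inC_inv {a : Ω} (ha : InC Q x a) : InC Q x a⁻¹ := ⟨Q.inv_mem ha.1, ha.2.inv_left⟩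

theorem inC_zp (i : ZMod p) : InC Q x (zp z i) :=
  ⟨h.zpowers_le (zp_mem z i), (h.comm_of_mem (zp_mem z i) t.x_mem).symm⟩

theorem inC_comm {a b : Ω} (ha : InC Q x a) (hb : InC Q x b) : Commute a b :=
  t.abelian a ha.1 b hb.1 ha.2.eq hb.2.eq

theorem x_E : x ∈ E := by
  rw [t.E_eq]; exact Subgroup.mem_sup_left (Subgroup.mem_zpowers x)

theorem E_dec {e : Ω} (he : e ∈ E) : ∃ (i : ZMod p) (c : Ω), InC Q x c ∧ zp x i * c = e := by
  rw [t.E_eq, Subgroup.sup_eq_closure] at he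
  induction he using Subgroup.closure_induction with
  | mem a ha =>
    rcases ha with ha | ha
    · obtain ⟨i, rfl⟩ := exists_zp (ord_x h t) ha
      exact ⟨i, 1, inC_one h t, by rw [mul_one]⟩
    · exact ⟨0, a, ⟨ha.1, Subgroup.mem_centralizer_singleton_iff.1 ha.2⟩,
        by rw [zp_zero, one_mul]⟩
  | one => exact ⟨0, 1, inC_one h t, by rw [zp_zero, one_mul]⟩
  | mul a b _ _ ha hb =>
    obtain ⟨i, c, hc, rfl⟩ := ha
    obtain ⟨j, d, hd, rfl⟩ := hb
    refine ⟨i + j, c * d, inC_mul h t hc hd, ?_⟩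
    rw [zp_add (ord_x h t), mul_assoc, ← mul_assoc (zp x j),
      show zp x j * c = c * zp x j from (hc.2.pow_right j.val).eq.symm]
    simp only [mul_assoc]
  | inv a _ ha =>
    obtain ⟨i, c, hc, rfl⟩ := ha
    refine ⟨-i, c⁻¹, inC_inv h t hc, ?_⟩
    rw [zp_neg (ord_x h t), mul_inv_rev]
    exact ((hc.2.pow_right i.val).inv_inv).eq.symm

theorem E_comm {a b : Ω} (ha : a ∈ E) (hb : b ∈ E) : Commute a b := by
  obtain ⟨i, c, hc, rfl⟩ := E_dec h t ha
  obtain ⟨j, d, hd, rfl⟩ := E_dec h t hb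
  exact ((Commute.pow_pow_self x _ _).mul_right (hd.2.pow_right _).symm).mul_left
    ((hc.2.pow_right _).mul_right (inC_comm h t hc hd))

theorem aut_inv_x : autFun α⁻¹ x = z := by
  rw [← t.image]; exact autFun_inv_left α t.z_mem

/-- Automorphisms do not bring `z` to another element centralising `x` in `Q`. -/
theorem no_z {γ : MulAut E} (hγ : γ ∈ F.autGroup E) (hC : InC Q x (autFun γ z)) :
    autFun γ z ∈ Subgroup.zpowers z :=
  by_contra fun hz => t.no_conj _ hC.1 hC.2.eq hz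
    (isConjElt_of_mor (isMor_autFun (Ex_le h t) hγ) t.z_mem)

theorem map_zp_E (γ : MulAut E) {w : Ω} (hw : w ∈ E) (i : ZMod p) :
    autFun γ (zp w i) = zp (autFun γ w) i := by
  show autFun γ (w ^ i.val) = autFun γ w ^ i.val
  generalize i.val = k
  induction k with
  | zero =>
    rw [pow_zero, pow_zero, autFun_of_mem γ E.one_mem]
    exact congrArg Subtype.val (_root_.map_one γ)
  | succ k ih => rw [pow_succ, pow_succ, autFun_map_mul γ (E.pow_mem hw k) hw, ih]

/-- The elements of the complement. -/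
def Mid (Q : Subgroup Ω) {E : Subgroup Ω} (α : MulAut E) (x a : Ω) : Prop :=
  InC Q x a ∧ InC Q x (autFun α⁻¹ a)

theorem mid_one : Mid Q α x (1 : Ω) := by
  refine ⟨inC_one h t, ?_⟩
  rw [autFun_of_mem α⁻¹ E.one_mem,
    show ((α⁻¹ ⟨1, E.one_mem⟩ : E) : Ω) = 1 from congrArg Subtype.val (_root_.map_one α⁻¹)]
  exact inC_one h t

theorem mid_mul {a b : Ω} (ha : Mid Q α x a) (hb : Mid Q α x b) : Mid Q α x (a * b) := by
  refine ⟨inC_mul h t ha.1 hb.1, ?_⟩
  rw [autFun_map_mul _ (inC_le h t ha.1) (inC_le h t hb.1)]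
  exact inC_mul h t ha.2 hb.2

theorem mid_zp {i : ZMod p} (hm : Mid Q α x (zp z i)) : i = 0 := by
  by_contra hi
  have h1 : InC Q x (autFun α⁻¹ z) := by
    have h2 := hm.2
    rw [map_zp_E h t _ t.z_mem] at h2
    have hw : autFun α⁻¹ z ^ p = 1 := by
      have ho := (isMor_autFun (Ex_le h t) ((F.autGroup E).inv_mem t.aut)).orderOf_eq t.z_mem
      rw [h.z_order] at ho
      exact orderOf_dvd_iff_pow_eq_one.1 ho.dvd
    have := mem_of_zp_mem hw hi (H := Q ⊓ Subgroup.centralizer {x})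
      ⟨h2.1, Subgroup.mem_centralizer_singleton_iff.2 h2.2.eq⟩
    exact ⟨this.1, Subgroup.mem_centralizer_singleton_iff.1 this.2⟩
  have h2 := no_z h t ((F.autGroup E).inv_mem t.aut) h1
  obtain ⟨j, hj⟩ := exists_zp h.z_order h2
  have h3 := autFun_inv_right α t.z_mem
  rw [hj, map_zp_E h t _ t.z_mem, t.image] at h3
  have h4 : j = 0 := zp_x_mem h t (by rw [h3]; exact h.z_mem)
  rw [h4, zp_zero] at h3
  exact t.x_not (by
    have : orderOf z = 1 := by rw [← h3, orderOf_one]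
    rw [h.z_order] at this
    exact absurd this hp.out.one_lt.ne')

theorem exists_mid {a : Ω} (ha : InC Q x a) : ∃ i : ZMod p, Mid Q α x (a * zp z i) := by
  obtain ⟨m, c', hc', hm⟩ := E_dec h t (autFun_mem α⁻¹ t.z_mem)
  have hm0 : m ≠ 0 := by
    intro e
    rw [e, zp_zero, one_mul] at hm
    refine one_ne_zero (mid_zp h t (i := (1 : ZMod p)) ⟨inC_zp h t 1, ?_⟩)
    rw [zp_one, ← hm]; exact hc'
  obtain ⟨k, c, hc, hk⟩ := E_dec h t (autFun_mem α⁻¹ (inC_le h t ha))
  refine ⟨-k / m, inC_mul h t ha (inC_zp h t _), ?_⟩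
  rw [autFun_map_mul _ (inC_le h t ha) (inC_le h t (inC_zp h t _)), map_zp_E h t _ t.z_mem, ← hk,
    ← hm]
  set s := ((-k / m : ZMod p)).val with hs
  have e1 : zp (zp x m * c') (-k / m) = zp x (-k) * c' ^ s := by
    show (zp x m * c') ^ s = _
    rw [(show Commute (zp x m) c' from (hc'.2.pow_right m.val).symm).mul_pow, zp_pow (ord_x h t), hs,
      ZMod.natCast_zmod_val, div_mul_cancel₀ _ hm0]
  rw [e1, mul_assoc, ← mul_assoc c,
    show c * zp x (-k) = zp x (-k) * c from (hc.2.pow_right _).eq, mul_assoc (zp x (-k)),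
    ← mul_assoc (zp x k), ← zp_add (ord_x h t), add_neg_cancel, zp_zero, one_mul]
  exact inC_mul h t hc ⟨Q.pow_mem hc'.1 _, hc'.2.pow_left _⟩

theorem dd_mem {q : Ω} (hq : q ∈ Q) : dd x q ∈ Q := by
  have h1 := h.normal x⁻¹ (S.inv_mem t.x_mem) q hq
  rw [cj, inv_inv] at h1
  exact Q.mul_mem h1 (Q.inv_mem hq)

variable (K : Coords p n S Q z)
include K

/-- the map moved by `x⁻¹` -/
noncomputable def mm (K : Coords p n S Q z) (x : Ω) : Module.End (ZMod p) (Fin (2 * n) → ZMod p) :=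
  K.act x⁻¹ - 1

theorem π_dd {q : Ω} (hq : q ∈ Q) : K.π (dd x q) = mm K x (K.π q) := by
  have : dd x q = ⁅x⁻¹, q⁆ := by rw [commutatorElement_def, dd, inv_inv]
  rw [this, K.π_commutator h (S.inv_mem t.x_mem) hq]
  rfl

theorem cj_central {q a : Ω} (hq : q ∈ Q) (ha : a ∈ Q) :
    cj q a = a * zp z (K.B (K.π q) (K.π a)) := by
  rw [h.comm_of_mem (zp_mem z _) (h.le ha), ← K.comm q hq a ha, commutatorElement_def,
    inv_mul_cancel_right]
  rfl

theorem cj_inC {q a : Ω} (hq : q ∈ Q) (ha : InC Q x a) : InC Q x (cj q a) := by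
  rw [cj_central h t K hq ha.1]
  exact inC_mul h t ha (inC_zp h t _)

theorem normal_E {q : Ω} (hq : q ∈ Q) (hd : InC Q x (dd x q)) :
    q ∈ Subgroup.normalizer (E : Set Ω) := by
  have key : ∀ r ∈ Q, InC Q x (dd x r) → ∀ e ∈ E, cj r e ∈ E := by
    intro r hr hdr e he
    obtain ⟨i, c, hc, rfl⟩ := E_dec h t he
    rw [cj_map_mul]
    refine E.mul_mem ?_ (inC_le h t (cj_inC h t K hr hc))
    show cj r (x ^ i.val) ∈ E
    rw [show cj r (x ^ i.val) = cj r x ^ i.val from (conj_pow).symm, cj_x]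
    exact E.pow_mem (E.mul_mem (x_E h t) (inC_le h t hdr)) _
  have hd' : InC Q x (dd x q⁻¹) := by
    have e := dd_mul x q⁻¹ q
    rw [inv_mul_cancel, show dd x 1 = 1 by simp [dd]] at e
    rw [eq_inv_of_mul_eq_one_left e.symm]
    exact inC_inv h t (cj_inC h t K (Q.inv_mem hq) hd)
  refine Subgroup.mem_normalizer_iff.2 fun e => ⟨key q hq hd e, fun he => ?_⟩
  have := key q⁻¹ (Q.inv_mem hq) hd' _ he
  simpa [cj, mul_assoc] using this

theorem exists_aut_cj {q : Ω} (hq : q ∈ Q) (hd : InC Q x (dd x q)) :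
    ∃ γ ∈ F.autGroup E, ∀ e ∈ E, autFun γ e = cj q e := by
  obtain ⟨γ, hγ, e⟩ := exists_autInducedBy (P := E) (h.le hq) (normal_E h t K hq hd)
  exact ⟨γ, autInducedBy_le F (Ex_le h t) hγ, e⟩

/-- An element of `Q` moving `x` within the complement fixes it. -/
theorem mid_dd {q : Ω} (hq : q ∈ Q) (hd : Mid Q α x (dd x q)) : dd x q = 1 := by
  obtain ⟨γ, hγ, e⟩ := exists_aut_cj h t K hq hd.1
  have hmem := (F.autGroup E).mul_mem ((F.autGroup E).inv_mem t.aut) ((F.autGroup E).mul_mem hγ t.aut)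
  have e1 : autFun (α⁻¹ * (γ * α)) z = z * autFun α⁻¹ (dd x q) := by
    rw [autFun_mul _ _ t.z_mem, autFun_mul _ _ t.z_mem, t.image, e x (x_E h t), cj_x,
      autFun_map_mul _ (x_E h t) (inC_le h t hd.1), aut_inv_x h t]
  have hzC : InC Q x z := by simpa [zp_one] using inC_zp h t (1 : ZMod p)
  have h1 := no_z h t hmem (by rw [e1]; exact inC_mul h t hzC hd.2)
  rw [e1] at h1
  obtain ⟨j, hj⟩ := exists_zp h.z_order
    ((Subgroup.mul_mem_cancel_left _ (Subgroup.mem_zpowers z)).1 h1)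
  have h2 := autFun_inv_right α (inC_le h t hd.1)
  rw [hj, map_zp_E h t _ t.z_mem, t.image] at h2
  have := zp_x_mem h t (h2 ▸ hd.1.1)
  rw [← h2, this, zp_zero]

theorem mm_nil : mm K x ^ p = 0 := K.sub_one_pow (S.inv_mem t.x_mem)

/-- `x` centralises what it fixes modulo the centre. -/
theorem commute_of_fixed (hne : ∃ a ∈ Q, a * x = x * a ∧ a ∉ Subgroup.zpowers z) {q₀ : Ω}
    (hq₀ : q₀ ∈ Q) (h0 : mm K x (K.π q₀) = 0) : dd x q₀ = 1 := by
  by_contra hd0
  obtain ⟨i, hi⟩ := exists_zp h.z_order ((K.π_eq_zero _ (dd_mem h t hq₀)).1 (by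
    rw [π_dd h t K hq₀, h0]))
  have hi0 : i ≠ 0 := fun e => hd0 (by rw [hi, e, zp_zero])
  have hpow : ∀ k : ℕ, dd x (q₀ ^ k) = zp z ((k : ZMod p) * i) := by
    intro k
    induction k with
    | zero => simp [dd, zp_zero]
    | succ k ih =>
      rw [pow_succ, dd_mul, ih, hi, h.cj_of_mem (zp_mem z i) (S.pow_mem (h.le hq₀) k),
        ← zp_add h.z_order, Nat.cast_succ, add_mul, one_mul]
  -- multiplying by a power of `q₀`
  have hshift : ∀ r ∈ Q, ∀ s : ZMod p,
      dd x (r * q₀ ^ (s / i).val) = dd x r * zp z s := by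
    intro r hr s
    rw [dd_mul, hpow, ZMod.natCast_zmod_val, div_mul_cancel₀ _ hi0,
      h.cj_of_mem (zp_mem z s) (h.le hr)]
  have hA : ∀ a, InC Q x a → ∀ v, mm K x v = K.π a → K.π a = 0 := by
    intro a ha v hv
    obtain ⟨r, hr, rfl⟩ := K.π_surj v
    rw [← π_dd h t K hr] at hv
    obtain ⟨k, hk⟩ := K.eq_mul_zp h ha.1 (dd_mem h t hr) hv.symm
    have hd : InC Q x (dd x r) := by rw [hk]; exact inC_mul h t ha (inC_zp h t _)
    obtain ⟨s, hs⟩ := exists_mid h t hd
    have hrQ : r * q₀ ^ (s / i).val ∈ Q := Q.mul_mem hr (Q.pow_mem hq₀ _)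
    have h1 := mid_dd h t K hrQ (by rw [hshift r hr]; exact hs)
    rw [hshift r hr] at h1
    rw [← hv, eq_inv_of_mul_eq_one_left h1]
    exact (K.π_eq_zero _ (Q.inv_mem (h.zpowers_le (zp_mem z s)))).2
      (Subgroup.inv_mem _ (zp_mem z s))
  have hker : ∀ v, mm K x v = 0 → ∃ a, InC Q x a ∧ ∃ c : ZMod p, v = K.π a + c • K.π q₀ := by
    intro v hv
    obtain ⟨r, hr, rfl⟩ := K.π_surj v
    obtain ⟨j, hj⟩ := exists_zp h.z_order ((K.π_eq_zero _ (dd_mem h t hr)).1 (by
      rw [π_dd h t K hr, hv]))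
    refine ⟨r * q₀ ^ (-j / i).val, ⟨Q.mul_mem hr (Q.pow_mem hq₀ _), dd_eq_one_iff.1 ?_⟩, j / i, ?_⟩
    · rw [hshift r hr, hj, ← zp_add h.z_order, add_neg_cancel, zp_zero]
    · rw [K.π_mul _ hr _ (Q.pow_mem hq₀ _), K.π_pow hq₀, ← Nat.cast_smul_eq_nsmul (ZMod p),
        ZMod.natCast_zmod_val, neg_div, neg_smul, neg_add_cancel_right]
  have hisoC : ∀ a b, InC Q x a → InC Q x b → K.B (K.π a) (K.π b) = 0 := fun a b ha hb =>
    (K.comm_eq_one_iff h ha.1 hb.1).1 (inC_comm h t ha hb).eq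
  have hperp : ∀ v w, mm K x v = 0 → K.B v (mm K x w) = 0 := fun v w hv =>
    (K.mem_ker_iff (S.inv_mem t.x_mem) v).1 hv w
  -- kernel and image meet trivially
  have hmeet : ∀ w, mm K x (mm K x w) = 0 → mm K x w = 0 := by
    intro w hw
    obtain ⟨a, ha, c, hac⟩ := hker _ hw
    by_cases hc : c = 0
    · rw [hc, zero_smul, add_zero] at hac
      rw [hac]; exact hA a ha w hac
    exfalso
    obtain ⟨a', ha'Q, ha'x, ha'z⟩ := hne
    have ha' : InC Q x a' := ⟨ha'Q, ha'x⟩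
    have hfix : mm K x (K.π a') = 0 := by
      rw [← π_dd h t K ha'Q, dd_eq_one_iff.2 ha'.2, K.π_one]
    -- the kernel is isotropic
    have hq : ∀ b, InC Q x b → K.B (K.π q₀) (K.π b) = 0 := by
      intro b hb
      have h1 := hperp (K.π b) w (by rw [← π_dd h t K hb.1, dd_eq_one_iff.2 hb.2, K.π_one])
      rw [K.flip, neg_eq_zero, hac] at h1
      simp only [map_add, map_smul, LinearMap.add_apply, LinearMap.smul_apply,
        hisoC a b ha hb, zero_add, smul_eq_mul] at h1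
      exact (mul_eq_zero.1 h1).resolve_left hc
    have hiso : ∀ v, mm K x v = 0 → K.B (K.π a') v = 0 := by
      intro v hv
      obtain ⟨b, hb, d, rfl⟩ := hker v hv
      rw [map_add, map_smul, hisoC a' b ha' hb, K.flip, hq a' ha', neg_zero, smul_zero, add_zero]
    -- so it lies in the image
    have hrange : K.π a' ∈ LinearMap.range (mm K x) := by
      by_contra hnot
      obtain ⟨φ, hφ, hφW⟩ := Submodule.exists_dual_map_eq_bot_of_notMem hnot inferInstance
      have hinj : Function.Injective K.B := fun v v' e => by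
        rw [← sub_eq_zero]
        exact K.nondeg _ fun w' => by rw [map_sub, e, sub_self]; rfl
      obtain ⟨b, rfl⟩ := (LinearMap.injective_iff_surjective_of_finrank_eq_finrank
        (Subspace.dual_finrank_eq (K := ZMod p)).symm).1 hinj φ
      have hb : mm K x b = 0 := (K.mem_ker_iff (S.inv_mem t.x_mem) b).2 fun w' => by
        have hmem : K.B b (mm K x w') ∈ (LinearMap.range (mm K x)).map (K.B b) :=
          Submodule.mem_map_of_mem (LinearMap.mem_range_self _ w')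
        rw [hφW] at hmem
        exact hmem
      exact hφ (by rw [K.flip, hiso b hb, neg_zero])
    obtain ⟨v, hv⟩ := hrange
    exact ha'z ((K.π_eq_zero a' ha'Q).1 (hA a' ha' v hv))
  -- so the map is zero
  refine K.act_ne x⁻¹ (S.inv_mem t.x_mem) (fun e => t.x_not (inv_inv x ▸ Q.inv_mem e)) ?_
  rw [← sub_eq_zero]
  show mm K x = 0
  refine LinearMap.ext fun v => ?_
  have hk : ∀ k : ℕ, (mm K x ^ (k + 1)) v = 0 → mm K x v = 0 := by
    intro k
    induction k with
    | zero => simp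
    | succ k ih =>
      intro e
      refine ih ?_
      rw [pow_succ', Module.End.mul_apply, pow_succ', Module.End.mul_apply] at e
      rw [pow_succ', Module.End.mul_apply]
      exact hmeet _ e
  rw [LinearMap.zero_apply]
  refine hk (p - 1) ?_
  rw [Nat.sub_add_cancel hp.out.one_le, mm_nil h t K, LinearMap.zero_apply]

end

end CfsgLib.ExtraIndexP.Siegel
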