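import Mathlib

/-!
# The planes of the Siegel case (statement S5177): linear algebra

A point is a triple (coordinate along `x`, vector of the complement, coordinate along `z`); `G` stands for
the automorphisms in the fusion system.
-/

set_option autoImplicit false

namespace CfsgLib.ExtraIndexP.Siegel

variable {p : ℕ} [hp : Fact p.Prime] {W : Type*} [AddCommGroup W] [Module (ZMod p) W]

theorem two_ne_zero' (hodd : Odd p) : (2 : ZMod p) ≠ 0 := by
  intro h
  have h' : ((2 : ℕ) : ZMod p) = 0 := by exact_mod_cast h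
  rw [ZMod.natCast_eq_zero_iff, Nat.dvd_prime Nat.prime_two] at h'
  rcases h' with h' | h'
  · exact hp.out.one_lt.ne' h'
  · rw [h'] at hodd
    exact absurd hodd (by decide)

/-- Triples of coordinates. -/
abbrev Pt (p : ℕ) (W : Type*) := ZMod p × W × ZMod p

/-- The action of an element of `Q` with image `v`. -/
def tr (β : W →ₗ[ZMod p] W →ₗ[ZMod p] ZMod p) (g : W → ZMod p) (v : W) (y : Pt p W) : Pt p W :=
  (y.1, y.2.1 + y.1 • v, y.2.2 + y.1 * g v + β v y.2.1)

/-- What is known of the automorphisms. -/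
structure Model (β : W →ₗ[ZMod p] W →ₗ[ZMod p] ZMod p) (g : W → ZMod p)
    (G : (Pt p W → Pt p W) → Prop) where
  comp : ∀ f h, G f → G h → G (f ∘ h)
  trans : ∀ v, G (tr β g v)
  al : Pt p W →ₗ[ZMod p] Pt p W
  al' : Pt p W →ₗ[ZMod p] Pt p W
  mem : G al
  mem' : G al'
  left : ∀ y, al' (al y) = y
  right : ∀ y, al (al' y) = y
  al_z : al (0, 0, 1) = (1, 0, 0)
  al'_mid : ∀ w, (al' (0, w, 0)).1 = 0
  bad : ∀ f, G f → (f (0, 0, 1)).1 = 0 → (f (0, 0, 1)).2.1 = 0

namespace Model

variable {β : W →ₗ[ZMod p] W →ₗ[ZMod p] ZMod p} {g : W → ZMod p}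
  {G : (Pt p W → Pt p W) → Prop} (M : Model β g G)

theorem al'_x : M.al' (1, 0, 0) = (0, 0, 1) := by rw [← M.al_z, M.left]

theorem fst_al' (y : Pt p W) : (M.al' y).1 = (M.al' (0, 0, 1)).1 * y.2.2 := by
  have e : y = y.1 • ((1, 0, 0) : Pt p W) + (0, y.2.1, 0) + y.2.2 • ((0, 0, 1) : Pt p W) := by
    ext <;> simp
  conv_lhs => rw [e, map_add, map_add, map_smul, map_smul, M.al'_x]
  simp [M.al'_mid, mul_comm]

theorem coeff_ne : (M.al' (0, 0, 1)).1 ≠ 0 := by
  intro h
  have h1 := M.bad _ M.mem' h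
  have h2 : M.al' (0, 0, 1) = (M.al' (0, 0, 1)).2.2 • ((0, 0, 1) : Pt p W) := by
    ext <;> simp [h, h1]
  have h3 := M.right (0, 0, 1)
  rw [h2, map_smul, M.al_z] at h3
  have := congrArg (fun y : Pt p W => y.2.2) h3
  simp at this

theorem snd_al {y : Pt p W} (hy : y.1 = 0) : (M.al y).2.2 = 0 := by
  have h := M.fst_al' (M.al y)
  rw [M.left, hy] at h
  exact (mul_eq_zero.1 h.symm).resolve_left M.coeff_ne

theorem mid_ne {v : W} (hv : v ≠ 0) (b : ZMod p) : (M.al (0, v, b)).2.1 ≠ 0 := by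
  intro h
  have e : M.al (0, v, b) = M.al ((M.al (0, v, b)).1 • ((0, 0, 1) : Pt p W)) := by
    rw [map_smul, M.al_z]
    ext <;> simp [h, M.snd_al (y := (0, v, b)) rfl]
  have := congrArg M.al' e
  rw [M.left, M.left] at this
  exact hv (by simpa using congrArg (fun y : Pt p W => y.2.1) this)

/-- The conjugate of a translation. -/
def low (v : W) : Pt p W → Pt p W := M.al ∘ tr β g v ∘ M.al'

theorem low_mem (v : W) : G (M.low v) := M.comp _ _ M.mem (M.comp _ _ (M.trans v) M.mem')

end Model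

/-- The linear case is impossible. -/
theorem linear_false (hodd : Odd p) {β : W →ₗ[ZMod p] W →ₗ[ZMod p] ZMod p} {g : W → ZMod p}
    {G : (Pt p W → Pt p W) → Prop} (M : Model β g G) (hβ : ∀ v w, β v w = 0)
    (hg : ∀ (c : ZMod p) (v : W), g (c • v) = c * g v) {v : W} (hv : v ≠ 0) : False := by
  set k := (M.al' (0, 0, 1)).1 with hk
  set e := M.al (0, v, g v) with he
  have hlow : ∀ (c : ZMod p) y, M.low (c • v) y = y + ((M.al' y).1 * c) • e := by
    intro c y
    have h1 : tr β g (c • v) (M.al' y) = M.al' y + ((M.al' y).1 * c) • (0, v, g v) := by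
      ext <;> simp [tr, hβ, hg, smul_smul, mul_assoc]
    simp only [Model.low, Function.comp_apply, h1, map_add, map_smul, M.right, he]
  have he2 : e.2.2 = 0 := M.snd_al rfl
  have hj : e.2.1 ≠ 0 := M.mid_ne hv _
  have hU : ∀ y : Pt p W, y.2.2 ≠ 0 → ∀ t : ZMod p, y + t • e = M.low ((t / (k * y.2.2)) • v) y := by
    intro y hy t
    rw [hlow, M.fst_al', ← hk, mul_div_cancel₀ _ (mul_ne_zero M.coeff_ne hy)]
  have h1 : M.low ((1 / (k * 1)) • v) (0, 0, 1) = (e.1, e.2.1, 1) := by
    rw [← hU (0, 0, 1) one_ne_zero 1]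
    ext <;> simp [he2]
  by_cases hi : e.1 = 0
  · have hb := M.bad _ (M.low_mem ((1 / (k * 1)) • v))
      (show (M.low ((1 / (k * 1)) • v) (0, 0, 1)).1 = 0 by rw [h1]; exact hi)
    rw [h1] at hb
    exact hj hb
  obtain ⟨v', hv', hc⟩ : ∃ v' : W, v' ≠ 0 ∧ 1 + e.1 * g v' ≠ 0 := by
    by_cases hc : 1 + e.1 * g v = 0
    · refine ⟨(-1 : ZMod p) • v, by simpa using hv, fun h => two_ne_zero' hodd ?_⟩
      rw [hg] at h
      linear_combination hc + h
    · exact ⟨v, hv, hc⟩
  set y : Pt p W := (e.1, e.2.1 + e.1 • v', 1 + e.1 * g v') with hy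
  have h2 : tr β g v' (e.1, e.2.1, 1) = y := by simp [tr, hy, hβ]
  have h3 := hU y hc (-1)
  have hmem := M.comp _ _ (M.low_mem ((-1 / (k * y.2.2)) • v))
    (M.comp _ _ (M.trans v') (M.low_mem ((1 / (k * 1)) • v)))
  have := M.bad _ hmem (by simp only [Function.comp_apply, h1, h2, ← h3]; simp [hy])
  simp only [Function.comp_apply, h1, h2, ← h3] at this
  simp [hy, hi, hv'] at this

/-- The quadratic case gives the opposite group and so a torus. -/
theorem exists_torus (hodd : Odd p) [Module.Finite (ZMod p) W]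
    {β : W →ₗ[ZMod p] W →ₗ[ZMod p] ZMod p} {g : W → ZMod p}
    {G : (Pt p W → Pt p W) → Prop} (M : Model β g G) (hsym : ∀ v w, β v w = β w v)
    (haniso : ∀ v, β v v = 0 → v = 0) (hg : ∀ v, g v = β v v / 2)
    {e₁ e₂ : W} (h₁ : e₁ ≠ 0) (h₂ : e₂ ≠ 0) (horth : β e₁ e₂ = 0)
    (hspan : ∀ u, u = (β e₁ u / β e₁ e₁) • e₁ + (β e₂ u / β e₂ e₂) • e₂) :
    ∃ r : ZMod p, r ≠ 0 ∧ ∃ f, G f ∧ ∀ a w b, f (a, w, b) = (r * a, -w, r⁻¹ * b) := by
  have h2 := two_ne_zero' hodd
  have hgsmul : ∀ (c : ZMod p) (v : W), g (c • v) = c ^ 2 * g v := fun c v => by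
    simp [hg]; ring
  have hg0 : ∀ v, g v = 0 → v = 0 := fun v h => haniso v (by
    rw [hg, div_eq_zero_iff] at h; exact h.resolve_right h2)
  have hgadd : ∀ v w, g (v + w) = g v + g w + β v w := fun v w => by
    simp only [hg, map_add, LinearMap.add_apply, hsym w v]
    field_simp
    ring
  have hrep : ∀ c : ZMod p, ∃ v, g v = c := by
    intro c
    have hcard : Fintype.card (ZMod p) % 2 = 1 := by rw [ZMod.card]; exact Nat.odd_iff.1 hodd
    obtain ⟨s, t, hst⟩ := FiniteField.exists_root_sum_quadratic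
      (f := Polynomial.C (g e₁) * Polynomial.X ^ 2)
      (g := Polynomial.C (g e₂) * Polynomial.X ^ 2 - Polynomial.C c)
      (Polynomial.degree_C_mul_X_pow 2 fun h => h₁ (hg0 _ h)) (by
        have hd := Polynomial.degree_C_mul_X_pow (R := ZMod p) 2 (a := g e₂) fun h => h₂ (hg0 _ h)
        rw [Polynomial.degree_sub_eq_left_of_degree_lt (by
          rw [hd]; exact lt_of_le_of_lt Polynomial.degree_C_le (by norm_num)), hd]
        rfl) hcard
    refine ⟨s • e₁ + t • e₂, ?_⟩
    simp only [Polynomial.eval_mul, Polynomial.eval_C, Polynomial.eval_pow, Polynomial.eval_X,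
      Polynomial.eval_sub] at hst
    rw [hgadd, hgsmul, hgsmul]
    simp only [map_smul, LinearMap.smul_apply, horth, smul_eq_mul, mul_zero, add_zero]
    linear_combination hst
  -- normalise
  set k := (M.al' (0, 0, 1)).1 with hk
  have hk0 : k ≠ 0 := M.coeff_ne
  set r : W := k⁻¹ • (M.al' (0, 0, 1)).2.1 with hr
  have htr0 : ∀ v, tr β g v (0, 0, 1) = (0, 0, 1) := fun v => by simp [tr]
  set k₂ := (tr β g (-r) (M.al' (0, 0, 1))).2.2 with hk₂
  have hz : tr β g (-r) (M.al' (0, 0, 1)) = (k, 0, k₂) := by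
    refine Prod.ext rfl (Prod.ext ?_ rfl)
    simp [tr, hr, ← hk, smul_smul, mul_inv_cancel₀ hk0]
  have hcancel : ∀ v y, tr β g v (tr β g (-v) y) = y := by
    intro v y
    have e : g (-v) = g v := by simp [hg]
    have e' : β v v = g v * 2 := by rw [hg, div_mul_cancel₀ _ h2]
    ext <;> simp [tr, e, e']
    ring
  -- the adjusted map
  let L : W → Pt p W := fun v => M.al (tr β g r (0, v, 0))
  have hLmid : ∀ v, L v = M.al (0, v, β r v) := fun v => by simp [L, tr]
  set low : W → Pt p W → Pt p W :=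
    fun v => M.al ∘ tr β g r ∘ tr β g v ∘ tr β g (-r) ∘ M.al' with hlow
  have hmem : ∀ v, G (low v) := fun v => M.comp _ _ M.mem (M.comp _ _ (M.trans r)
    (M.comp _ _ (M.trans v) (M.comp _ _ (M.trans (-r)) M.mem')))
  have hsmul : ∀ v (c : ZMod p) y, tr β g v (c • y) = c • tr β g v y := fun v c y => by
    ext <;> simp [tr, smul_add, smul_smul, mul_add, mul_assoc]
  have hx : ∀ v (a : ZMod p), low v (a, 0, 0) = (a, 0, 0) := by
    intro v a
    have e : ((a, 0, 0) : Pt p W) = a • ((1, 0, 0) : Pt p W) := by ext <;> simp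
    rw [e]
    simp only [hlow, Function.comp_apply, map_smul, M.al'_x, hsmul, htr0, M.al_z]
  have hadd : ∀ v y y', tr β g v (y + y') = tr β g v y + tr β g v y' := fun v y y' => by
    ext
    · simp [tr]
    · simp [tr, add_smul]; abel
    · simp [tr]; ring
  have hlowadd : ∀ v y y', low v (y + y') = low v y + low v y' := fun v y y' => by
    simp only [hlow, Function.comp_apply, map_add, hadd]
  -- the image of `z`
  have hLsnd : ∀ v, (L v).2.2 = 0 := fun v => by rw [hLmid]; exact M.snd_al rfl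
  set ω : W → W := fun v => k • (L v).2.1 with hω
  set h : W → ZMod p := fun v => k * (g v + (L v).1) with hh
  have hzlow : ∀ v, low v (0, 0, 1) = (h v, ω v, 1) := by
    intro v
    have e : tr β g v (k, 0, k₂) = (k, 0, k₂) + k • ((0, v, 0) + g v • (0, 0, 1) : Pt p W) := by
      ext <;> simp [tr]
    have e' : M.al (tr β g r (k, 0, k₂)) = (0, 0, 1) := by
      rw [← hz, hcancel, M.right]
    simp only [hlow, Function.comp_apply, hz, e, hadd, map_add, hsmul, htr0, map_smul, M.al_z, e']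
    ext <;> simp [hh, hω, L, hLsnd, mul_add, add_comm, show (M.al (tr β g r (0, v, 0))).2.2 = 0 from hLsnd v]
  have hω0 : ∀ v, v ≠ 0 → ω v ≠ 0 := fun v hv => by
    refine smul_ne_zero hk0 ?_
    rw [hLmid]; exact M.mid_ne hv _
  have hh0 : ∀ v, h v = 0 → v = 0 := by
    intro v hv
    by_contra hv0
    have h1 := M.bad _ (hmem v) (by rw [hzlow]; exact hv)
    rw [hzlow] at h1
    exact hω0 v hv0 h1
  have hLsmul : ∀ (c : ZMod p) v, L (c • v) = c • L v := fun c v => by
    rw [hLmid, hLmid, ← map_smul, map_smul (β r)]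
    simp
  have hl : ∀ v, (L v).1 = 0 := by
    intro v
    by_contra hv
    have hv0 : v ≠ 0 := by
      rintro rfl
      exact hv (by rw [hLmid, map_zero, show ((0, 0, 0) : Pt p W) = 0 from rfl, map_zero]; rfl)
    have hgv : g v ≠ 0 := fun e => hv0 (hg0 v e)
    refine smul_ne_zero (div_ne_zero (neg_ne_zero.2 hv) hgv) hv0 (hh0 _ ?_)
    simp only [hh, hLsmul, hgsmul, Prod.smul_fst, smul_eq_mul]
    field_simp
    ring
  have hhg : ∀ v, h v = k * g v := fun v => by rw [hh]; simp [hl]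
  -- no other conjugate of `z`
  have hQ : ∀ v, g (ω v) = h v := by
    intro v
    rcases eq_or_ne v 0 with rfl | hv
    · have e : ω 0 = 0 := by
        simp only [hω, hLmid, map_zero, show ((0, 0, 0) : Pt p W) = 0 from rfl]
        exact smul_zero k
      rw [e, hhg]
      simp [hg]
    have hv1 : h v ≠ 0 := fun e => hv (hh0 v e)
    by_contra hne
    set b := 1 - g (ω v) / h v with hb
    have hb0 : b ≠ 0 := by
      rw [hb, sub_ne_zero, ne_comm, ne_eq, div_eq_one_iff_eq hv1]
      exact hne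
    set t := -(h v)⁻¹ with ht
    have h1 : tr β g (t • ω v) (low v (0, 0, 1)) = (h v, 0, b) := by
      rw [hzlow]
      have gen : ∀ w, β (t • w) w = t * (g w * 2) := fun w => by
        rw [map_smul, LinearMap.smul_apply, hg, div_mul_cancel₀ _ h2, smul_eq_mul]
      have e := gen (ω v)
      ext
      · simp [tr]
      · simp [tr, ht, smul_smul, mul_inv_cancel₀ hv1]
      · simp only [tr, hgsmul, e, hb]
        simp only [ht]
        field_simp
        ring
    obtain ⟨u, hu⟩ := hrep (-h v / (b * k))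
    have hu' : h u = -h v / b := by rw [hhg, hu]; field_simp
    have e : ((h v, 0, b) : Pt p W) = (h v, 0, 0) + b • (0, 0, 1) := by ext <;> simp
    have h3 : low u (h v, 0, b) = (0, b • ω u, b) := by
      rw [e, hlowadd, hx]
      have : low u (b • (0, 0, 1)) = b • low u (0, 0, 1) := by
        simp only [hlow, Function.comp_apply, map_smul, hsmul]
      rw [this, hzlow, hu']
      ext <;> simp [mul_div_cancel₀ _ hb0]
    have hu0 : u ≠ 0 := by
      rintro rfl
      rw [hhg 0, show g 0 = 0 by simp [hg], mul_zero, eq_comm, div_eq_zero_iff, neg_eq_zero] at hu'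
      exact hu'.elim hv1 hb0
    have h4 := M.bad _ (M.comp _ _ (hmem u) (M.comp _ _ (M.trans (t • ω v)) (hmem v))) (by
      simp only [Function.comp_apply, h1, h3])
    simp only [Function.comp_apply, h1, h3] at h4
    exact smul_ne_zero hb0 (hω0 u hu0) h4
  have hLadd : ∀ v w, L (v + w) = L v + L w := fun v w => by
    simp only [hLmid, ← map_add]
    congr 1
    simp
  let ωl : W →ₗ[ZMod p] W :=
    { toFun := ω
      map_add' := fun v w => by simp [hω, hLadd, smul_add]
      map_smul' := fun c v => by simp [hω, hLsmul, smul_comm c k] }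
  have hωsurj : ∀ w, ∃ v, ω v = w := LinearMap.surjective_of_injective (f := ωl) (by
    rw [injective_iff_map_eq_zero]
    exact fun v e => by_contra fun hv => hω0 v hv e)
  have hpol : ∀ v w, β (ω v) (ω w) = k * β v w := by
    intro v w
    have h := hQ (v + w)
    have : ω (v + w) = ω v + ω w := ωl.map_add v w
    rw [this, hgadd, hQ, hQ, hhg, hhg, hhg, hgadd] at h
    linear_combination h
  -- the opposite transvection
  have hU : ∀ w : W, ∃ f, G f ∧ ∀ a u b, f (a, u, b) =
      (a + β w u + b * g w, u + b • w, b) := by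
    intro w
    obtain ⟨v, rfl⟩ := hωsurj w
    refine ⟨low v, hmem v, fun a u b => ?_⟩
    obtain ⟨v', hv'⟩ := hωsurj (k • u)
    have hmid : (L v').2.1 = u := smul_right_injective W hk0 hv'
    have hLu : L v' = (0, u, 0) := Prod.ext (hl v') (Prod.ext hmid (hLsnd v'))
    have hzb : low v (b • (0, 0, 1)) = b • low v (0, 0, 1) := by
      simp only [hlow, Function.comp_apply, map_smul, hsmul]
    have hmidlow : low v (0, u, 0) = (β (ω v) u, u, 0) := by
      have e1 : M.al' (0, u, 0) = tr β g r (0, v', 0) := by rw [← hLu]; simp [L, M.left]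
      have e2 : tr β g (-r) (M.al' (0, u, 0)) = (0, v', 0) := by
        rw [e1]; ext <;> simp [tr]
      have e3 : tr β g v (0, v', 0) = (0, v', 0) + β v v' • (0, 0, 1) := by ext <;> simp [tr]
      have e4 : β (ω v) u = β v v' := by
        have h := hpol v v'
        rw [hv', map_smul, smul_eq_mul] at h
        exact mul_left_cancel₀ hk0 h
      simp only [hlow, Function.comp_apply, e2, e3, hadd, hsmul, htr0, map_add, map_smul, M.al_z,
        show M.al (tr β g r (0, v', 0)) = (0, u, 0) from hLu, e4]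
      ext <;> simp
    have e : ((a, u, b) : Pt p W) = (a, 0, 0) + (0, u, 0) + b • (0, 0, 1) := by ext <;> simp
    rw [e, hlowadd, hlowadd, hx, hmidlow, hzb, hzlow, ← hQ]
    ext <;> simp
  -- the reflections
  have hn : ∀ e : W, e ≠ 0 → ∃ f, G f ∧ ∀ a u b, f (a, u, b) =
      (b * g e, u - (β e u / g e) • e, a / g e) := by
    intro e he
    have hq : g e ≠ 0 := fun h => he (hg0 e h)
    obtain ⟨f, hf, hfe⟩ := hU e
    refine ⟨tr β g ((-(g e)⁻¹) • e) ∘ f ∘ tr β g ((-(g e)⁻¹) • e),
      M.comp _ _ (M.trans _) (M.comp _ _ hf (M.trans _)), fun a u b => ?_⟩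
    have e1 : β e e = g e * 2 := by rw [hg, div_mul_cancel₀ _ h2]
    simp only [Function.comp_apply, tr, hfe, hgsmul, map_add, map_smul, LinearMap.smul_apply,
      smul_eq_mul, e1]
    refine Prod.ext ?_ (Prod.ext ?_ ?_)
    · field_simp; ring
    · simp only [smul_add, smul_smul]
      match_scalars <;> field_simp <;> ring
    · field_simp; ring
  obtain ⟨f₁, hf₁, e1⟩ := hn e₁ h₁
  obtain ⟨f₂, hf₂, e2⟩ := hn e₂ h₂
  have hq1 : g e₁ ≠ 0 := fun h => h₁ (hg0 _ h)
  have hq2 : g e₂ ≠ 0 := fun h => h₂ (hg0 _ h)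
  refine ⟨g e₁ / g e₂, div_ne_zero hq1 hq2, f₁ ∘ f₂, M.comp _ _ hf₁ hf₂, fun a u b => ?_⟩
  rw [Function.comp_apply, e2, e1]
  refine Prod.ext (by field_simp) (Prod.ext ?_ (by field_simp))
  simp only [map_sub, map_smul, horth, smul_eq_mul, mul_zero, sub_zero]
  have hb1 : β e₁ u / g e₁ = 2 * (β e₁ u / β e₁ e₁) := by rw [hg]; field_simp
  have hb2 : β e₂ u / g e₂ = 2 * (β e₂ u / β e₂ e₂) := by rw [hg]; field_simp
  rw [hb1, hb2]
  conv_rhs => rw [hspan u]
  conv_lhs => arg 1; arg 1; rw [hspan u]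
  match_scalars <;> ring

end CfsgLib.ExtraIndexP.Siegel
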