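import Cfsg.Agent.Lib.ExtraIndexP.Siegel.Frame
import Cfsg.Agent.Lib.ExtraIndexP.Siegel.Model

/-!
# The Siegel case: coordinates on the essential subgroup and the form on the fixed space
-/

set_option autoImplicit false
set_option linter.unusedSectionVars false

open Cfsg Cfsg.FusionSystem CfsgLib.Fusion Module
open scoped commutatorElement

namespace CfsgLib.ExtraIndexP.Siegel

universe u

variable {Ω : Type u} [Group Ω] {p n : ℕ} [hp : Fact p.Prime] {S Q : Subgroup Ω}
  {F : FusionSystem S} {z : Ω} {E : Subgroup Ω} {α : MulAut E} {x : Ω}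

/-- The hypotheses of this case. -/
structure Setting (p n : ℕ) (S Q : Subgroup Ω) (F : FusionSystem S) (z : Ω) (E : Subgroup Ω)
    (α : MulAut E) (x : Ω) : Prop where
  ctx : Ctx p n S Q F z
  two : CaseTwo p S Q F z E α x
  ne : ∃ a ∈ Q, a * x = x * a ∧ a ∉ Subgroup.zpowers z

/-- The fixed space. -/
noncomputable abbrev fixSp (K : Coords p n S Q z) (x : Ω) : Submodule (ZMod p) (Fin (2 * n) → ZMod p) :=
  LinearMap.ker (mm K x)

variable (st : Setting p n S Q F z E α x) (K : Coords p n S Q z)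
include st K

theorem inC_of_fixed {a : Ω} (ha : a ∈ Q) (hf : mm K x (K.π a) = 0) : InC Q x a :=
  ⟨ha, dd_eq_one_iff.1 (commute_of_fixed st.ctx st.two K st.ne ha hf)⟩

theorem fixed_of_inC {a : Ω} (ha : InC Q x a) : mm K x (K.π a) = 0 := by
  rw [← π_dd st.ctx st.two K ha.1, dd_eq_one_iff.2 ha.2, K.π_one]

theorem mid_unique {a b : Ω} (ha : Mid Q α x a) (hb : Mid Q α x b) (e : K.π a = K.π b) :
    a = b := by
  obtain ⟨i, hi⟩ := K.eq_mul_zp st.ctx ha.1.1 hb.1.1 e
  have hinv : Mid Q α x a⁻¹ := by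
    refine ⟨inC_inv st.ctx st.two ha.1, ?_⟩
    have haE := inC_le st.ctx st.two ha.1
    rw [(isMor_autFun (Ex_le st.ctx st.two) ((F.autGroup E).inv_mem st.two.aut)).map_inv haE]
    exact inC_inv st.ctx st.two ha.2
  have h0 := mid_zp st.ctx st.two (i := i) (by
    have := mid_mul st.ctx st.two hinv hb
    rwa [hi, inv_mul_cancel_left] at this)
  rw [hi, h0, zp_zero, mul_one]

theorem exists_sec (w : fixSp K x) : ∃ a, Mid Q α x a ∧ K.π a = w := by
  obtain ⟨q, hq, e⟩ := K.π_surj (w : Fin (2 * n) → ZMod p)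
  have hC := inC_of_fixed st K hq (e ▸ w.2)
  obtain ⟨i, hi⟩ := exists_mid st.ctx st.two hC
  exact ⟨_, hi, by rw [K.π_mul _ hq _ (st.ctx.zpowers_le (zp_mem z i)), K.π_zp st.ctx, add_zero, e]⟩

/-- The complement. -/
noncomputable def sec (w : fixSp K x) : Ω := (exists_sec st K w).choose

theorem sec_mid (w : fixSp K x) : Mid Q α x (sec st K w) := (exists_sec st K w).choose_spec.1

theorem sec_π (w : fixSp K x) : K.π (sec st K w) = w := (exists_sec st K w).choose_spec.2

theorem sec_add (v w : fixSp K x) : sec st K (v + w) = sec st K v * sec st K w :=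
  mid_unique st K (sec_mid st K _) (mid_mul st.ctx st.two (sec_mid st K v) (sec_mid st K w)) (by
    rw [K.π_mul _ (sec_mid st K v).1.1 _ (sec_mid st K w).1.1, sec_π, sec_π, sec_π]
    rfl)

theorem sec_zero : sec st K 0 = 1 :=
  mid_unique st K (sec_mid st K _) (mid_one st.ctx st.two) (by rw [sec_π, K.π_one]; rfl)

theorem sec_pow (w : fixSp K x) : sec st K w ^ p = 1 := by
  have hm : ∀ k : ℕ, sec st K w ^ k = sec st K (k • w) := by
    intro k
    induction k with
    | zero => rw [pow_zero, zero_smul, sec_zero]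
    | succ k ih => rw [pow_succ, ih, succ_nsmul, sec_add]
  rw [hm, ← Nat.cast_smul_eq_nsmul (ZMod p), ZMod.natCast_self, zero_smul, sec_zero]

theorem θ_fixed (w : fixSp K x) : K.θ w = 0 := by
  have h := K.pow _ (sec_mid st K w).1.1
  rw [sec_pow, sec_π, eq_comm, zp_eq_one_iff st.ctx.z_order] at h
  exact h

/-- The coordinates. -/
noncomputable def pt (y : Pt p (fixSp K x)) : Ω := zp x y.1 * (sec st K y.2.1 * zp z y.2.2)

theorem tail_inC (w : fixSp K x) (b : ZMod p) : InC Q x (sec st K w * zp z b) :=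
  inC_mul st.ctx st.two (sec_mid st K w).1 (inC_zp st.ctx st.two b)

theorem pt_mem (y : Pt p (fixSp K x)) : pt st K y ∈ E :=
  E.mul_mem (E.pow_mem (x_E st.ctx st.two) _) (inC_le st.ctx st.two (tail_inC st K _ _))

theorem pt_add (y y' : Pt p (fixSp K x)) : pt st K (y + y') = pt st K y * pt st K y' := by
  have hc := inC_le st.ctx st.two (tail_inC st K y.2.1 y.2.2)
  have hx' : zp x y'.1 ∈ E := E.pow_mem (x_E st.ctx st.two) _
  have c1 : Commute (sec st K y.2.1 * zp z y.2.2) (zp x y'.1) := E_comm st.ctx st.two hc hx'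
  have c2 : Commute (zp z y.2.2) (sec st K y'.2.1) := E_comm st.ctx st.two
    (inC_le st.ctx st.two (inC_zp st.ctx st.two _)) (inC_le st.ctx st.two (sec_mid st K _).1)
  simp only [pt, Prod.fst_add, Prod.snd_add, zp_add (ord_x st.ctx st.two), sec_add,
    zp_add st.ctx.z_order]
  rw [c1.mul_mul_mul_comm, c2.mul_mul_mul_comm]

theorem pt_x (a : ZMod p) : pt st K (a, 0, 0) = zp x a := by
  simp [pt, sec_zero, zp_zero]

theorem pt_sec (w : fixSp K x) : pt st K (0, w, 0) = sec st K w := by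
  simp [pt, zp_zero]

theorem pt_z (b : ZMod p) : pt st K (0, 0, b) = zp z b := by
  simp [pt, sec_zero, zp_zero]

theorem pt_tail (w : fixSp K x) (b : ZMod p) : pt st K (0, w, b) = sec st K w * zp z b := by
  simp [pt, zp_zero]

theorem pt_zero : pt st K 0 = 1 :=
  show pt st K (0, 0, 0) = 1 by rw [pt_z, zp_zero]

theorem fst_of_inC {y : Pt p (fixSp K x)} (hy : InC Q x (pt st K y)) : y.1 = 0 :=
  zp_x_mem st.ctx st.two ((Q.mul_mem_cancel_right (tail_inC st K _ _).1).1 hy.1)

theorem inC_of_fst {y : Pt p (fixSp K x)} (hy : y.1 = 0) : InC Q x (pt st K y) := by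
  rw [pt, hy, zp_zero, one_mul]
  exact tail_inC st K _ _

theorem snd_of_zpowers {y : Pt p (fixSp K x)} (hy : pt st K y ∈ Subgroup.zpowers z) :
    y.2.1 = 0 := by
  have h1 := (K.π_eq_zero _ (st.ctx.zpowers_le hy)).2 hy
  have h0 : y.1 = 0 :=
    zp_x_mem st.ctx st.two ((Q.mul_mem_cancel_right (tail_inC st K _ _).1).1 (st.ctx.zpowers_le hy))
  rw [pt, h0, zp_zero, one_mul, K.π_mul _ (sec_mid st K _).1.1 _ (st.ctx.zpowers_le (zp_mem z _)),
    K.π_zp st.ctx, add_zero, sec_π] at h1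
  exact Subtype.ext h1

theorem pt_inj {y y' : Pt p (fixSp K x)} (h : pt st K y = pt st K y') : y = y' := by
  rw [← sub_eq_zero]
  set d := y - y' with hd
  have h1 : pt st K d = 1 := by
    have := pt_add st K d y'
    rw [hd, sub_add_cancel, h] at this
    exact hd ▸ right_eq_mul.1 this
  have h0 : d.1 = 0 := fst_of_inC st K (h1 ▸ inC_one st.ctx st.two)
  have h2 : d.2.1 = 0 := snd_of_zpowers st K (h1 ▸ one_mem _)
  rw [pt, h0, h2, zp_zero, sec_zero, one_mul, one_mul, zp_eq_one_iff st.ctx.z_order] at h1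
  exact Prod.ext h0 (Prod.ext h2 h1)

theorem pt_surj {e : Ω} (he : e ∈ E) : ∃ y, pt st K y = e := by
  obtain ⟨i, c, hc, rfl⟩ := E_dec st.ctx st.two he
  set w : fixSp K x := ⟨K.π c, fixed_of_inC st K hc⟩ with hw
  obtain ⟨j, hj⟩ := K.eq_mul_zp st.ctx (sec_mid st K w).1.1 hc.1 (sec_π st K w)
  exact ⟨(i, w, j), by rw [hj]; rfl⟩

theorem exists_lin_aut (γ : MulAut E) : ∃ f : Pt p (fixSp K x) →ₗ[ZMod p] Pt p (fixSp K x),
    ∀ y, autFun γ (pt st K y) = pt st K (f y) := by
  choose f hf using fun y => pt_surj st K (autFun_mem γ (pt_mem st K y))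
  have hadd : ∀ a b, f (a + b) = f a + f b := fun a b => pt_inj st K (by
    rw [pt_add, hf, hf, hf, pt_add, autFun_map_mul γ (pt_mem st K a) (pt_mem st K b)])
  exact ⟨(AddMonoidHom.mk' f hadd).toZModLinearMap p, fun y => (hf y).symm⟩

/-- The maps induced by the automorphisms in the system. -/
def InAut (f : Pt p (fixSp K x) → Pt p (fixSp K x)) : Prop :=
  ∃ γ ∈ F.autGroup E, ∀ y, autFun γ (pt st K y) = pt st K (f y)

theorem inAut_comp (f g : Pt p (fixSp K x) → Pt p (fixSp K x)) (hf : InAut st K f)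
    (hg : InAut st K g) : InAut st K (f ∘ g) := by
  obtain ⟨γ, hγ, ef⟩ := hf
  obtain ⟨δ, hδ, eg⟩ := hg
  exact ⟨γ * δ, (F.autGroup E).mul_mem hγ hδ, fun y => by
    rw [autFun_mul _ _ (pt_mem st K y), eg, ef, Function.comp_apply]⟩

theorem inAut_bad (f : Pt p (fixSp K x) → Pt p (fixSp K x)) (hf : InAut st K f)
    (h1 : (f (0, 0, 1)).1 = 0) : (f (0, 0, 1)).2.1 = 0 := by
  obtain ⟨γ, hγ, e⟩ := hf
  have e1 := e (0, 0, 1)
  rw [pt_z, zp_one] at e1
  exact snd_of_zpowers st K (e1 ▸ no_z st.ctx st.two hγ (e1 ▸ inC_of_fst st K h1))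

/-! ### The form -/

theorem fixed_iso (v w : fixSp K x) : K.B v w = 0 := by
  rw [← sec_π st K v, ← sec_π st K w]
  exact (K.comm_eq_one_iff st.ctx (sec_mid st K v).1.1 (sec_mid st K w).1.1).1
    (inC_comm st.ctx st.two (sec_mid st K v).1 (sec_mid st K w).1).eq

theorem exists_perp {P : Submodule (ZMod p) (Fin (2 * n) → ZMod p)} {v : Fin (2 * n) → ZMod p}
    (hv : v ∉ P) : ∃ b, (∀ d ∈ P, K.B b d = 0) ∧ K.B b v ≠ 0 := by
  obtain ⟨φ, hφ, hφP⟩ := Submodule.exists_dual_map_eq_bot_of_notMem hv inferInstance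
  have hinj : Function.Injective K.B := fun a a' e => by
    rw [← sub_eq_zero]
    exact K.nondeg _ fun w' => by rw [map_sub, e, sub_self]; rfl
  obtain ⟨b, rfl⟩ := (LinearMap.injective_iff_surjective_of_finrank_eq_finrank
    (Subspace.dual_finrank_eq (K := ZMod p)).symm).1 hinj φ
  refine ⟨b, fun d hd => ?_, hφ⟩
  have hmem : K.B b d ∈ P.map (K.B b) := Submodule.mem_map_of_mem hd
  rw [hφP] at hmem
  exact hmem

theorem fixed_le_range : fixSp K x ≤ LinearMap.range (mm K x) := by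
  intro v hv
  by_contra hn
  obtain ⟨b, hb, hbv⟩ := exists_perp st K hn
  have hb0 : b ∈ fixSp K x := (K.mem_ker_iff (S.inv_mem st.two.x_mem) b).2
    fun w => hb _ (LinearMap.mem_range_self _ w)
  exact hbv (fixed_iso st K ⟨b, hb0⟩ ⟨v, hv⟩)

theorem exists_pre : ∃ s : fixSp K x →ₗ[ZMod p] (Fin (2 * n) → ZMod p),
    ∀ v, mm K x (s v) = v := by
  obtain ⟨g, hg⟩ := (mm K x).rangeRestrict.exists_rightInverse_of_surjective
    (mm K x).range_rangeRestrict
  exact ⟨g ∘ₗ Submodule.inclusion (fixed_le_range st K), fun v =>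
    congrArg Subtype.val (LinearMap.congr_fun hg (Submodule.inclusion (fixed_le_range st K) v))⟩

/-- A preimage. -/
noncomputable def pre : fixSp K x →ₗ[ZMod p] (Fin (2 * n) → ZMod p) := (exists_pre st K).choose

theorem mm_pre (v : fixSp K x) : mm K x (pre st K v) = v := (exists_pre st K).choose_spec v

/-- The form on the fixed space. -/
noncomputable def form : fixSp K x →ₗ[ZMod p] fixSp K x →ₗ[ZMod p] ZMod p :=
  (K.B.comp (pre st K)).compl₂ (fixSp K x).subtype

theorem form_eq {q : Ω} {v : fixSp K x} (hv : mm K x (K.π q) = v) (w : fixSp K x) :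
    K.B (K.π q) w = form st K v w := by
  have hf : mm K x (K.π q - pre st K v) = 0 := by rw [map_sub, hv, mm_pre, sub_self]
  have h := fixed_iso st K ⟨_, hf⟩ w
  rw [map_sub, LinearMap.sub_apply, sub_eq_zero] at h
  exact h

theorem exists_quad (v : fixSp K x) : ∃ (q : Ω) (i : ZMod p), q ∈ Q ∧ mm K x (K.π q) = v ∧
    dd x q = sec st K v * zp z i := by
  obtain ⟨q, hq, e⟩ := K.π_surj (pre st K v)
  have hπ : mm K x (K.π q) = v := by rw [e, mm_pre]
  obtain ⟨i, hi⟩ := K.eq_mul_zp st.ctx (sec_mid st K v).1.1 (dd_mem st.ctx st.two hq)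
    (by rw [sec_π, π_dd st.ctx st.two K hq, hπ])
  exact ⟨q, i, hq, hπ, hi⟩

/-- The coordinate along the centre. -/
noncomputable def quad (v : fixSp K x) : ZMod p := (exists_quad st K v).choose_spec.choose

theorem dd_eq {q : Ω} (hq : q ∈ Q) {v : fixSp K x} (hv : mm K x (K.π q) = v) :
    dd x q = sec st K v * zp z (quad st K v) := by
  set q₁ := (exists_quad st K v).choose with hq₁
  obtain ⟨h1, h2, h3⟩ := (exists_quad st K v).choose_spec.choose_spec
  have hc : InC Q x (q₁⁻¹ * q) := inC_of_fixed st K (Q.mul_mem (Q.inv_mem h1) hq) (by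
    rw [K.π_mul _ (Q.inv_mem h1) _ hq, K.π_inv h1, map_add, map_neg, h2, hv, neg_add_cancel])
  have e := dd_mul x q₁ (q₁⁻¹ * q)
  rw [mul_inv_cancel_left, dd_eq_one_iff.2 hc.2] at e
  rw [e, h3]
  simp [cj, quad]

theorem dd_inC {q : Ω} (hq : q ∈ Q) {v : fixSp K x} (hv : mm K x (K.π q) = v) :
    InC Q x (dd x q) := by
  rw [dd_eq st K hq hv]; exact tail_inC st K _ _

theorem quad_add (v w : fixSp K x) :
    quad st K (v + w) = quad st K v + quad st K w + form st K v w := by
  obtain ⟨q, i, hq, hv, -⟩ := exists_quad st K v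
  obtain ⟨r, j, hr, hw, -⟩ := exists_quad st K w
  have e := dd_mul x q r
  rw [dd_eq st K hq hv, dd_eq st K hr hw,
    dd_eq st K (Q.mul_mem hq hr) (v := v + w) (by rw [K.π_mul _ hq _ hr, map_add, hv, hw]; rfl),
    cj_central st.ctx st.two K hq (tail_inC st K w _).1,
    K.π_mul _ (sec_mid st K w).1.1 _ (st.ctx.zpowers_le (zp_mem z _)), K.π_zp st.ctx, add_zero,
    sec_π, form_eq st K hv] at e
  refine congrArg (fun y : Pt p (fixSp K x) => y.2.2) (pt_inj st K
    (y := (0, v + w, quad st K (v + w)))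
    (y' := (0, v + w, quad st K v + quad st K w + form st K v w)) ?_)
  have e2 : ((0, v + w, quad st K v + quad st K w + form st K v w) : Pt p (fixSp K x)) =
      (0, v, quad st K v) + ((0, w, quad st K w) + (0, 0, form st K v w)) := by
    ext <;> simp [add_assoc]
  rw [e2, pt_add, pt_add, pt_tail, pt_tail, pt_tail, pt_z, e]

theorem quad_ne {v : fixSp K x} (hv : quad st K v = 0) : v = 0 := by
  obtain ⟨q, i, hq, hπ, -⟩ := exists_quad st K v
  have e := dd_eq st K hq hπ
  rw [hv, zp_zero, mul_one] at e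
  have h1 := mid_dd st.ctx st.two K hq (by rw [e]; exact sec_mid st K v)
  have h2 := sec_π st K v
  rw [← e, h1, K.π_one] at h2
  exact Subtype.ext h2.symm

/-- Conjugation by an element of `Q` in coordinates. -/
theorem cj_pt {q : Ω} (hq : q ∈ Q) {v : fixSp K x} (hv : mm K x (K.π q) = v)
    (y : Pt p (fixSp K x)) :
    cj q (pt st K y) = pt st K (tr (form st K) (quad st K) v y) := by
  obtain ⟨γ, hγ, e⟩ := exists_aut_cj st.ctx st.two K hq (dd_inC st K hq hv)
  obtain ⟨f, hf⟩ := exists_lin_aut st K γ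
  have hfx : f (1, 0, 0) = (1, v, quad st K v) := pt_inj st K (by
    rw [← hf, pt_x, zp_one, e x (x_E st.ctx st.two), cj_x, dd_eq st K hq hv]
    simp [pt, zp_one])
  have hfw : ∀ w, f (0, w, 0) = (0, w, form st K v w) := fun w => pt_inj st K (by
    rw [← hf, pt_sec, e _ (inC_le st.ctx st.two (sec_mid st K w).1),
      cj_central st.ctx st.two K hq (sec_mid st K w).1.1, sec_π, form_eq st K hv, pt_tail])
  have hfz : f (0, 0, 1) = (0, 0, 1) := pt_inj st K (by
    rw [← hf, pt_z, zp_one, e _ st.two.z_mem, st.ctx.cj_of_mem (Subgroup.mem_zpowers z)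
      (st.ctx.le hq)])
  rw [← e _ (pt_mem st K y), hf]
  congr 1
  have hy : y = y.1 • ((1, 0, 0) : Pt p (fixSp K x)) + (0, y.2.1, 0) +
      y.2.2 • ((0, 0, 1) : Pt p (fixSp K x)) := by
    ext <;> simp
  conv_lhs => rw [hy, map_add, map_add, map_smul, map_smul, hfx, hfw, hfz]
  ext <;> simp [tr, add_comm, add_left_comm]
  ring

theorem inAut_tr (v : fixSp K x) : InAut st K (tr (form st K) (quad st K) v) := by
  obtain ⟨q, i, hq, hv, -⟩ := exists_quad st K v
  obtain ⟨γ, hγ, e⟩ := exists_aut_cj st.ctx st.two K hq (dd_inC st K hq hv)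
  exact ⟨γ, hγ, fun y => by rw [e _ (pt_mem st K y), cj_pt st K hq hv]⟩

theorem exists_model : Nonempty (Model (form st K) (quad st K) (InAut st K)) := by
  obtain ⟨f, hf⟩ := exists_lin_aut st K α
  obtain ⟨f', hf'⟩ := exists_lin_aut st K α⁻¹
  refine ⟨{ comp := inAut_comp st K, trans := inAut_tr st K, al := f, al' := f',
            mem := ⟨α, st.two.aut, hf⟩, mem' := ⟨α⁻¹, (F.autGroup E).inv_mem st.two.aut, hf'⟩,
            left := fun y => pt_inj st K ?_, right := fun y => pt_inj st K ?_,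
            al_z := pt_inj st K ?_, al'_mid := fun w => fst_of_inC st K ?_,
            bad := inAut_bad st K }⟩
  · rw [← hf', ← hf, autFun_inv_left α (pt_mem st K y)]
  · rw [← hf, ← hf', autFun_inv_right α (pt_mem st K y)]
  · rw [← hf, pt_z, pt_x, zp_one, zp_one, st.two.image]
  · rw [← hf', pt_sec]
    exact (sec_mid st K w).2

end CfsgLib.ExtraIndexP.Siegel
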